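import Groth.Agent.TFLatticeLib.Core
import Groth.Agent.CanonLenLib.Main
import Groth.Agent.GorLib.Basic
import Mathlib.RingTheory.Localization.BaseChange
import Mathlib.RingTheory.Ideal.Colon

/-!
# Representatives of torsion-free modules over curve singularities
-/

set_option autoImplicit false
set_option linter.style.haveILetI false
set_option linter.unusedSectionVars false
universe u

open CategoryTheory Submodule
open scoped TensorProduct Pointwise

namespace TFLatticeLib

variable (O : Type u) [CommRing O] [IsDomain O] (K : Type u) [Field K] [Algebra O K] [IsFractionRing O K]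

/-- The conductor inside `K`. -/
abbrev cond : Submodule O K := (1 : Submodule O K) / Subalgebra.toSubmodule (integralClosure O K)

/-- The lattice `C^n`. -/
abbrev condLat (n : ℕ) : Submodule O (Fin n → K) := pi Set.univ fun _ : Fin n => cond O K

theorem one_le_nor : (1 : Submodule O K) ≤ Subalgebra.toSubmodule (integralClosure O K) := fun x hx => by
  obtain ⟨o, rfl⟩ := Submodule.mem_one.1 hx
  exact (integralClosure O K).algebraMap_mem o

theorem cond_le_one : cond O K ≤ 1 := fun x hx => by
  simpa using mem_div_iff_forall_mul_mem.1 hx 1 (integralClosure O K).one_mem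

theorem colon_smul_one :
    ((1 : Submodule O K).colon (Subalgebra.toSubmodule (integralClosure O K))) • (1 : Submodule O K) = cond O K := by
  refine le_antisymm (smul_le.2 fun r hr x hx => ?_) fun x hx => ?_
  · obtain ⟨o, rfl⟩ := Submodule.mem_one.1 hx
    refine mem_div_iff_forall_mul_mem.2 fun t ht => ?_
    rw [smul_mul_assoc, ← Algebra.smul_def, smul_comm]
    exact Submodule.smul_mem _ o (Submodule.mem_colon.1 hr t ht)
  · obtain ⟨o, rfl⟩ := Submodule.mem_one.1 (cond_le_one O K hx)
    rw [Algebra.algebraMap_eq_smul_one]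
    refine smul_mem_smul (Submodule.mem_colon.2 fun t ht => ?_) (Submodule.mem_one.2 ⟨1, map_one _⟩)
    rw [Algebra.smul_def]
    exact mem_div_iff_forall_mul_mem.1 hx t ht

theorem length_quot_colon :
    Module.length O (O ⧸ (1 : Submodule O K).colon (Subalgebra.toSubmodule (integralClosure O K))) =
      qLen (cond O K) (1 : Submodule O K) := by
  let f : O →ₗ[O] (↥(1 : Submodule O K) ⧸ (cond O K).comap (1 : Submodule O K).subtype) :=
    mkQ _ ∘ₗ LinearMap.codRestrict _ (Algebra.linearMap O K) fun o => Submodule.mem_one.2 ⟨o, rfl⟩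
  have hf : Function.Surjective f := fun y => by
    obtain ⟨⟨y, hy⟩, rfl⟩ := Submodule.Quotient.mk_surjective _ y
    obtain ⟨o, rfl⟩ := Submodule.mem_one.1 hy
    exact ⟨o, rfl⟩
  have hk : LinearMap.ker f = (1 : Submodule O K).colon (Subalgebra.toSubmodule (integralClosure O K)) := by
    ext o
    rw [LinearMap.mem_ker, Submodule.mem_colon]
    refine (Submodule.Quotient.mk_eq_zero _).trans ⟨fun h t ht => ?_, fun h =>
      mem_div_iff_forall_mul_mem.2 fun t ht => ?_⟩
    · rw [Algebra.smul_def]
      exact mem_div_iff_forall_mul_mem.1 h t ht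
    · have := h t ht
      rwa [Algebra.smul_def] at this
  rw [qLen, ← (f.quotKerEquivOfSurjective hf).length_eq, hk]

variable [Module.Finite O (Nor O K)]

theorem exists_conductor : ∃ c : O, c ≠ 0 ∧ algebraMap O K c ∈ cond O K := by
  classical
  obtain ⟨s, hs⟩ := (Module.Finite.iff_fg (N := Subalgebra.toSubmodule (integralClosure O K))).1
    (inferInstanceAs (Module.Finite O (Nor O K)))
  obtain ⟨b, hb⟩ := IsLocalization.exist_integer_multiples (nonZeroDivisors O) s id
  refine ⟨b, nonZeroDivisors.ne_zero b.2, mem_div_iff_forall_mul_mem.2 fun y hy => ?_⟩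
  rw [← hs] at hy
  rw [← Algebra.smul_def]
  induction hy using Submodule.span_induction with
  | mem g hg =>
    obtain ⟨r, hr⟩ := hb g hg
    exact Submodule.mem_one.2 ⟨r, hr⟩
  | zero => simp
  | add x y _ _ hx hy => rw [smul_add]; exact add_mem hx hy
  | smul r x _ hx => rw [smul_comm]; exact Submodule.smul_mem _ r hx

variable {O K}

theorem smul_mem_condLat {n : ℕ} {o : O} (ho : algebraMap O K o ∈ cond O K) {x : Fin n → K}
    (hx : x ∈ norLat O K n) : o • x ∈ condLat O K n := fun i _ =>
  mem_div_iff_forall_mul_mem.2 fun t ht => by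
    rw [Pi.smul_apply, Algebra.smul_def, mul_assoc]
    exact mem_div_iff_forall_mul_mem.1 ho _ ((integralClosure O K).mul_mem (hx i trivial) ht)

theorem span_eq_top_of_condLat_le {n : ℕ} {N : Submodule O (Fin n → K)} (h : condLat O K n ≤ N) :
    span K (N : Set (Fin n → K)) = ⊤ := by
  obtain ⟨c, hc, hc'⟩ := exists_conductor O K
  have hc0 : algebraMap O K c ≠ 0 := fun h => hc ((map_eq_zero_iff _ (IsFractionRing.injective O K)).1 h)
  rw [eq_top_iff, ← (Pi.basisFun K (Fin n)).span_eq, span_le]
  rintro _ ⟨i, rfl⟩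
  rw [Pi.basisFun_apply]
  have hs : (Pi.single i (1 : K) : Fin n → K) ∈ norLat O K n := fun j hj =>
    one_le_nor O K (single_mem_stdLat O K i j hj)
  have h1 := smul_mem (span K (N : Set (Fin n → K))) (algebraMap O K c)⁻¹
    (subset_span (h (smul_mem_condLat hc' hs)))
  rwa [← IsScalarTower.algebraMap_smul K c, smul_smul, inv_mul_cancel₀ hc0, one_smul] at h1

/-- The orthogonal lattice. -/
def perp {n : ℕ} (N : Submodule O (Fin n → K)) : Submodule O (Fin n → K) where
  carrier := {y | ∀ x ∈ N, ∑ i, x i * y i ∈ (1 : Submodule O K)}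
  add_mem' {y z} hy hz x hx := by
    simp only [Pi.add_apply, mul_add, Finset.sum_add_distrib]
    exact add_mem (hy x hx) (hz x hx)
  zero_mem' x _ := by simp
  smul_mem' r y hy x hx := by
    simp only [Pi.smul_apply, mul_smul_comm, ← Finset.smul_sum]
    exact Submodule.smul_mem _ r (hy x hx)

theorem condLat_le_perp {n : ℕ} {N : Submodule O (Fin n → K)} (h : N ≤ norLat O K n) :
    condLat O K n ≤ perp N := fun y hy x hx => sum_mem fun i _ => by
  rw [mul_comm]
  exact mem_div_iff_forall_mul_mem.1 (hy i trivial) _ (h hx i trivial)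

theorem perp_le_stdLat {n : ℕ} {N : Submodule O (Fin n → K)} (h : stdLat O K n ≤ N) :
    perp N ≤ stdLat O K n := fun y hy i _ => by
  have := hy _ (h (single_mem_stdLat O K i))
  simpa [Pi.single_apply] using this

theorem exists_perp_equiv {n : ℕ} {N : Submodule O (Fin n → K)} (h1 : stdLat O K n ≤ N)
    (h2 : N ≤ norLat O K n) : Nonempty (↥(perp N) ≃ₗ[O] (↥N →ₗ[O] ↥(1 : Submodule O K))) := by
  obtain ⟨c, hc, hc'⟩ := exists_conductor O K
  have hc0 : algebraMap O K c ≠ 0 := fun h => hc ((map_eq_zero_iff _ (IsFractionRing.injective O K)).1 h)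
  let Φ : ↥(perp N) →ₗ[O] (↥N →ₗ[O] ↥(1 : Submodule O K)) :=
    { toFun := fun y =>
        { toFun := fun x => ⟨∑ i, (x : Fin n → K) i * (y : Fin n → K) i, y.2 x x.2⟩
          map_add' := fun a b => Subtype.ext (by simp [add_mul, Finset.sum_add_distrib])
          map_smul' := fun r a => Subtype.ext (by simp [Finset.smul_sum]) }
      map_add' := fun a b => LinearMap.ext fun x => Subtype.ext (by simp [mul_add, Finset.sum_add_distrib])
      map_smul' := fun r a => LinearMap.ext fun x => Subtype.ext (by simp [Finset.smul_sum]) }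
  refine ⟨LinearEquiv.ofBijective Φ ⟨fun a b hab => Subtype.ext (funext fun i => ?_), fun φ => ?_⟩⟩
  · have := congrArg Subtype.val (LinearMap.congr_fun hab ⟨_, h1 (single_mem_stdLat O K i)⟩)
    simpa [Φ, Pi.single_apply] using this
  · let y : Fin n → K := fun i => (φ ⟨_, h1 (single_mem_stdLat O K i)⟩ : K)
    have key : ∀ x : N, ∑ i, (x : Fin n → K) i * y i = (φ x : K) := fun x => by
      have hcx := smul_mem_condLat hc' (h2 x.2)
      choose o ho using fun i => Submodule.mem_one.1 (cond_le_one O K (hcx i trivial))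
      have e : c • x = ∑ i, o i • (⟨_, h1 (single_mem_stdLat O K i)⟩ : N) := Subtype.ext (by
        funext j
        simp only [Submodule.coe_sum, Submodule.coe_smul, Finset.sum_apply, Pi.smul_apply, Pi.single_apply,
          smul_ite, smul_zero, Finset.sum_ite_eq, Finset.mem_univ, if_true]
        rw [Algebra.smul_def (o j), mul_one, ho, Pi.smul_apply])
      have e' := congrArg (fun z => ((φ z : (1 : Submodule O K)) : K)) e
      simp only [map_smul, map_sum, Submodule.coe_sum, Submodule.coe_smul] at e'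
      refine mul_left_cancel₀ hc0 ?_
      rw [Finset.mul_sum, ← Algebra.smul_def c ((φ x : K)), e']
      refine Finset.sum_congr rfl fun i _ => ?_
      rw [← mul_assoc, Algebra.smul_def (o i), ho i, Pi.smul_apply, Algebra.smul_def]
    refine ⟨⟨y, fun x hx => ?_⟩, LinearMap.ext fun x => Subtype.ext (key x)⟩
    rw [key ⟨x, hx⟩]
    exact (φ ⟨x, hx⟩).2

variable [IsNoetherianRing O] [IsLocalRing O] [Ring.KrullDimLE 1 O] [IsAlgClosed (IsLocalRing.ResidueField O)]

theorem exists_between_std_nor {M : Type u} [AddCommGroup M] [Module O M] [Module.Finite O M]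
    [NoZeroSMulDivisors O M] {n : ℕ} (hn : Module.finrank K (K ⊗[O] M) = n) :
    ∃ M' : Submodule O (Fin n → K), stdLat O K n ≤ M' ∧ M' ≤ norLat O K n ∧ Nonempty (M ≃ₗ[O] ↥M') := by
  let e : (K ⊗[O] M) ≃ₗ[K] (Fin n → K) := (Module.finBasisOfFinrankEq K (K ⊗[O] M) hn).equivFun
  let j : M →ₗ[O] (Fin n → K) := (e.restrictScalars O).toLinearMap ∘ₗ TensorProduct.mk O K M 1
  have hj : Function.Injective j := by
    refine e.injective.comp ?_
    rw [← LinearMap.ker_eq_bot, Submodule.eq_bot_iff]
    intro m hm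
    obtain ⟨c, hc⟩ := (IsLocalizedModule.eq_zero_iff (nonZeroDivisors O) (TensorProduct.mk O K M 1)).1
      (LinearMap.mem_ker.1 hm)
    exact (smul_eq_zero.1 hc).resolve_left (nonZeroDivisors.ne_zero c.2)
  have hspan : span K (LinearMap.range j : Set (Fin n → K)) = ⊤ := by
    rw [eq_top_iff]
    rintro x -
    obtain ⟨z, rfl⟩ := e.surjective x
    induction z with
    | zero => simp
    | add a b ha hb => rw [map_add]; exact add_mem ha hb
    | tmul a m =>
      rw [show a ⊗ₜ[O] m = a • ((1 : K) ⊗ₜ[O] m) by rw [TensorProduct.smul_tmul', smul_eq_mul, mul_one], map_smul]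
      exact smul_mem _ a (subset_span ⟨m, rfl⟩)
  obtain ⟨g, h1, h2⟩ := exists_standardize O K (LinearMap.range j) (LinearMap.range_eq_map j ▸
    (Module.Finite.fg_top.map j)) hspan
  exact ⟨_, h1, h2, ⟨(LinearEquiv.ofInjective j hj).trans ((g.restrictScalars O).submoduleMap _)⟩⟩

theorem fg_of_le_norLat {n : ℕ} {N : Submodule O (Fin n → K)} (h : N ≤ norLat O K n) : N.FG := by
  have hfg : (norLat O K n).FG :=
    Submodule.fg_pi fun _ => (Module.Finite.iff_fg (N := Subalgebra.toSubmodule (integralClosure O K))).1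
      (inferInstanceAs (Module.Finite O (Nor O K)))
  haveI := isNoetherian_of_fg_of_noetherian _ hfg
  exact isNoetherian_submodule.1 inferInstance N h

theorem dualising (hO : HasInjectiveDimensionLT (ModuleCat.of O O) 2) (hdim : ringKrullDim O = 1) :
    Groth.Agent.TFDualLib.Dualising O ↥(1 : Submodule O K) := by
  have h1 : (1 : Submodule O K) ≠ ⊥ := fun h => one_ne_zero ((Submodule.mem_bot O).1
    (h ▸ (Submodule.mem_one.2 ⟨1, map_one _⟩ : (1 : K) ∈ (1 : Submodule O K))))
  have hfg : (1 : Submodule O K).FG := ⟨{1}, by simp [Submodule.one_eq_span]⟩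
  let e : O ≃ₗ[O] ↥(1 : Submodule O K) :=
    LinearEquiv.ofBijective (LinearMap.codRestrict _ (Algebra.linearMap O K) fun o => Submodule.mem_one.2 ⟨o, rfl⟩)
      ⟨fun a b h => IsFractionRing.injective O K (congrArg Subtype.val h), fun y => by
        obtain ⟨o, ho⟩ := Submodule.mem_one.1 y.2
        exact ⟨o, Subtype.ext ho⟩⟩
  haveI := hO
  have hW : HasInjectiveDimensionLT (ModuleCat.of O ↥(1 : Submodule O K)) 2 :=
    hasInjectiveDimensionLT_of_iso e.toModuleIso 2
  exact
    { ext_zero := fun N _ _ _ _ i hi => Groth.Agent.TFDualLib.ext_tf hW N i hi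
      end_scalar := Groth.Agent.TFDualLib.exists_smul_of_end hW hdim h1 hfg }

theorem exists_between_cond_std (hd : Groth.Agent.TFDualLib.Dualising O ↥(1 : Submodule O K))
    {M : Type u} [AddCommGroup M] [Module O M] [Module.Finite O M]
    [NoZeroSMulDivisors O M] {n : ℕ} (hn : Module.finrank K (K ⊗[O] M) = n) :
    ∃ M' : Submodule O (Fin n → K), condLat O K n ≤ M' ∧ M' ≤ stdLat O K n ∧ Nonempty (M ≃ₗ[O] ↥M') := by
  obtain ⟨M₀, h1, h2, ⟨e₀⟩⟩ := exists_between_std_nor (K := K) hn
  obtain ⟨g, hg1, hg2⟩ := exists_standardize O K (perp M₀)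
    (fg_of_le_norLat ((perp_le_stdLat h1).trans (pi_mono fun _ _ => one_le_nor O K)))
    (span_eq_top_of_condLat_le (condLat_le_perp h2))
  obtain ⟨a⟩ := exists_perp_equiv h1 h2
  obtain ⟨b⟩ := exists_perp_equiv hg1 hg2
  haveI : Module.Finite O ↥(1 : Submodule O K) :=
    Module.Finite.iff_fg.2 ⟨{1}, by simp [Submodule.one_eq_span]⟩
  haveI : NoZeroSMulDivisors O ↥(1 : Submodule O K) := Groth.Agent.TFDualLib.noZeroSMulDivisors_sub _
  haveI : Nontrivial ↥(1 : Submodule O K) :=
    ⟨⟨1, Submodule.mem_one.2 ⟨1, map_one _⟩⟩, 0, fun h => one_ne_zero (congrArg Subtype.val h)⟩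
  let d := LinearEquiv.ofBijective (Groth.Agent.TFDualLib.biEval M)
    (Groth.Agent.TFDualLib.biEval_bijective hd M)
  let s : ↥(perp M₀) ≃ₗ[O] ↥((perp M₀).map (g.restrictScalars O : (Fin n → K) →ₗ[O] (Fin n → K))) :=
    (g.restrictScalars O).submoduleMap _
  exact ⟨_, condLat_le_perp hg2, perp_le_stdLat hg1,
    ⟨d.trans (((((e₀.congrLeft ↥(1 : Submodule O K) O).trans a.symm).trans s).congrLeft ↥(1 : Submodule O K) O).trans
      b.symm)⟩⟩

theorem qLen_eq_of_dual (hd : Groth.Agent.TFDualLib.Dualising O ↥(1 : Submodule O K)) :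
    qLen (cond O K) (1 : Submodule O K) = qLen (1 : Submodule O K) (Subalgebra.toSubmodule (integralClosure O K)) := by
  have h1 : (1 : Submodule O K) ≠ ⊥ := fun h => one_ne_zero ((Submodule.mem_bot O).1
    (h ▸ (Submodule.mem_one.2 ⟨1, map_one _⟩ : (1 : K) ∈ (1 : Submodule O K))))
  have hfg : (1 : Submodule O K).FG := ⟨{1}, by simp [Submodule.one_eq_span]⟩
  haveI : Module.Finite O ↥(1 : Submodule O K) := Module.Finite.iff_fg.2 hfg
  haveI : Nontrivial ↥(1 : Submodule O K) := Submodule.nontrivial_iff_ne_bot.2 h1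
  have h11 : (1 : Submodule O K) / 1 = 1 := by
    refine le_antisymm (fun x hx => by
      simpa using mem_div_iff_forall_mul_mem.1 hx 1 (Submodule.mem_one.2 ⟨1, map_one _⟩)) fun x hx =>
      mem_div_iff_forall_mul_mem.2 fun y hy => ?_
    obtain ⟨a, rfl⟩ := Submodule.mem_one.1 hx
    obtain ⟨b, rfl⟩ := Submodule.mem_one.1 hy
    exact Submodule.mem_one.2 ⟨a * b, map_mul _ a b⟩
  obtain ⟨c, hc, hc'⟩ := exists_conductor O K
  have h := CanonLenLib.relLen_div hd (one_le_nor O K) h1
    ((Module.Finite.iff_fg (N := Subalgebra.toSubmodule (integralClosure O K))).1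
      (inferInstanceAs (Module.Finite O (Nor O K))))
    (fun h => hc ((map_eq_zero_iff _ (IsFractionRing.injective O K)).1
      ((Submodule.mem_bot O).1 (h ▸ hc'))))
    (h11.symm ▸ hfg)
  rw [h11] at h
  exact h

theorem exists_colength (hd : Groth.Agent.TFDualLib.Dualising O ↥(1 : Submodule O K))
    {M : Type u} [AddCommGroup M] [Module O M] [Module.Finite O M]
    [NoZeroSMulDivisors O M] {n : ℕ} (hn : Module.finrank K (K ⊗[O] M) = n) :
    ∃ M' : Submodule O (Fin n → K), condLat O K n ≤ M' ∧ M' ≤ norLat O K n ∧ Nonempty (M ≃ₗ[O] ↥M') ∧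
      qLen (condLat O K n) M' = n * qLen (cond O K) (1 : Submodule O K) := by
  obtain ⟨c, hc, hc'⟩ := exists_conductor O K
  obtain ⟨N, hCN, hNO, ⟨e₀⟩⟩ := exists_between_cond_std (K := K) hd hn
  set T : Submodule O K := Subalgebra.toSubmodule (integralClosure O K) with hT
  set δ := qLen (1 : Submodule O K) T with hδ
  have hOT : stdLat O K n ≤ norLat O K n := pi_mono fun _ _ => one_le_nor O K
  have hCO : condLat O K n ≤ stdLat O K n := pi_mono fun _ _ => cond_le_one O K
  have hTfg : (norLat O K n).FG := fg_of_le_norLat le_rfl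
  have hfin : ∀ A : Submodule O (Fin n → K), condLat O K n ≤ A → qLen A (norLat O K n) ≠ ⊤ := fun A hA =>
    qLen_ne_top hTfg hc fun b hb => hA (smul_mem_condLat hc' hb)
  have hOTlen : qLen (stdLat O K n) (norLat O K n) = n * δ := by rw [qLen_pi, Fintype.card_fin]
  -- the lattice generated over the normalisation
  let L₀ : Submodule O (Fin n → K) := (span (Nor O K) (N : Set (Fin n → K))).restrictScalars O
  have hNL₀ : N ≤ L₀ := fun x hx => subset_span hx
  have hnor : ∀ t : Nor O K, ∀ x ∈ norLat O K n, t • x ∈ norLat O K n := fun t x hx i _ =>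
    (integralClosure O K).mul_mem t.2 (hx i trivial)
  have hL₀T : L₀ ≤ norLat O K n := fun x hx => by
    induction hx using span_induction with
    | mem y hy => exact hOT (hNO hy)
    | zero => exact zero_mem _
    | add a b _ _ ha hb => exact add_mem ha hb
    | smul t y _ hy => exact hnor t y hy
  obtain ⟨g, hg1, hg2⟩ := exists_standardize O K N (fg_of_le_norLat (hNO.trans hOT))
    (span_eq_top_of_condLat_le hCN)
  have hgL₀ : L₀.map (g.restrictScalars O : (Fin n → K) →ₗ[O] (Fin n → K)) ≤ norLat O K n := by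
    rintro _ ⟨x, hx, rfl⟩
    induction hx using span_induction with
    | mem y hy => exact hg2 ⟨y, hy, rfl⟩
    | zero => rw [map_zero]; exact zero_mem _
    | add a b _ _ ha hb => rw [map_add]; exact add_mem ha hb
    | smul t y _ hy =>
      change g (t • y) ∈ _
      rw [← IsScalarTower.algebraMap_smul K t y, map_smul, IsScalarTower.algebraMap_smul]
      exact hnor t _ hy
  have hNL₀len : qLen N L₀ ≤ n * δ := by
    rw [← qLen_map (g.restrictScalars O) N L₀, ← hOTlen]
    refine le_trans ?_ (qLen_mono hg1 hg2)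
    exact (qLen_add (Submodule.map_mono hNL₀) hgL₀).symm ▸ le_self_add
  set e := qLen N (stdLat O K n) with he
  have hNT : qLen N (norLat O K n) = e + n * δ := by rw [qLen_add hNO hOT, hOTlen]
  have hnδ : (n : ℕ∞) * δ ≠ ⊤ := hOTlen ▸ hfin _ hCO
  have hefin : e ≠ ⊤ := fun h => hfin N hCN (by rw [hNT, h, top_add])
  have hle : e ≤ qLen L₀ (norLat O K n) := by
    have h1 : e + n * δ ≤ qLen L₀ (norLat O K n) + n * δ := by
      rw [← hNT, qLen_add hNL₀ hL₀T, add_comm]
      exact add_le_add le_rfl hNL₀len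
    exact (ENat.add_le_add_iff_right hnδ).1 h1
  -- enlarge it
  have hstep : ∀ (d : ℕ) (L : Submodule O (Fin n → K)), N ≤ L → L ≤ norLat O K n →
      (∀ t : Nor O K, ∀ x ∈ L, t • x ∈ L) → qLen L (norLat O K n) = d + e →
      ∃ L', N ≤ L' ∧ L' ≤ norLat O K n ∧ (∀ t : Nor O K, ∀ x ∈ L', t • x ∈ L') ∧
        qLen L' (norLat O K n) = e := by
    intro d
    induction d with
    | zero => exact fun L hNL hLT hL h => ⟨L, hNL, hLT, hL, by simpa using h⟩
    | succ d ih =>
      intro L hNL hLT hL h
      have hne : L ≠ norLat O K n := fun hEq => by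
        rw [hEq, qLen_self] at h
        exact absurd (add_eq_zero.1 h.symm).1 (by simp)
      obtain ⟨L', hLL', hL'T, hL', h1⟩ := exists_step O K L (norLat O K n) hLT hne hTfg hL hnor hc
        fun x hx => (hCN.trans hNL) (smul_mem_condLat hc' hx)
      refine ih L' (hNL.trans hLL') hL'T hL' ?_
      rw [qLen_add hLL' hL'T, h1, Nat.cast_succ, add_comm (d : ℕ∞) 1, add_assoc] at h
      exact ENat.add_right_injective_of_ne_top (n := 1) (by simp) h
  obtain ⟨d, hd'⟩ : ∃ d : ℕ, qLen L₀ (norLat O K n) = d + e := by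
    obtain ⟨a, ha⟩ := ENat.ne_top_iff_exists.1 (hfin L₀ (hCN.trans hNL₀))
    obtain ⟨b, hb⟩ := ENat.ne_top_iff_exists.1 hefin
    rw [← ha, ← hb] at hle
    exact ⟨a - b, by rw [← ha, ← hb]; norm_cast at hle ⊢; omega⟩
  obtain ⟨L, hNL, hLT, hL, hLlen⟩ :=
    hstep d L₀ hNL₀ hL₀T (fun t x hx => smul_mem _ t hx) hd'
  obtain ⟨h, hh1, hh2⟩ := exists_standardize O K L (fg_of_le_norLat hLT)
    (span_eq_top_of_condLat_le (hCN.trans hNL))
  have hLimg : L.map (h.restrictScalars O : (Fin n → K) →ₗ[O] (Fin n → K)) = norLat O K n := by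
    refine le_antisymm hh2 fun x hx => ?_
    have hx' := mem_span_single O K hx
    clear hx
    induction hx' using span_induction with
    | mem y hy =>
      obtain ⟨i, rfl⟩ := hy
      exact hh1 (single_mem_stdLat O K i)
    | zero => exact zero_mem _
    | add a b _ _ ha hb => exact add_mem ha hb
    | smul t y _ hy =>
      obtain ⟨z, hz, rfl⟩ := hy
      refine ⟨t • z, hL t z hz, ?_⟩
      change h (t • z) = t • h z
      rw [← IsScalarTower.algebraMap_smul K t z, map_smul, IsScalarTower.algebraMap_smul]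
  let N' : Submodule O (Fin n → K) := N.map (h.restrictScalars O : (Fin n → K) →ₗ[O] (Fin n → K))
  have hN'T : N' ≤ norLat O K n := hLimg ▸ Submodule.map_mono hNL
  have hCN' : condLat O K n ≤ N' := by
    intro z hz
    have hzsum : z = ∑ j, (z j) • (Pi.single j (1 : K) : Fin n → K) := by
      conv_lhs => rw [← Finset.univ_sum_single z]
      exact Finset.sum_congr rfl fun j _ => by simp [← Pi.single_smul']
    choose o ho using fun j => Submodule.mem_one.1 (cond_le_one O K (hz j trivial))
    rw [hzsum]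
    refine sum_mem fun j _ => ?_
    obtain ⟨l, hl, hl'⟩ := hh1 (single_mem_stdLat O K j)
    refine ⟨o j • l, hCN (smul_mem_condLat ?_ (hLT hl)), ?_⟩
    · rw [ho]; exact hz j trivial
    · rw [map_smul, hl', ← ho j, IsScalarTower.algebraMap_smul]
  refine ⟨N', hCN', hN'T, ⟨e₀.trans ((h.restrictScalars O).submoduleMap N)⟩, ?_⟩
  have h1 : qLen N' (norLat O K n) = n * δ := by
    rw [← hLimg, qLen_map]
    have h2 : qLen N L + e = n * δ + e := by
      rw [← hLlen, ← qLen_add hNL hLT, hNT, hLlen, add_comm]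
    exact ENat.add_left_injective_of_ne_top hefin h2
  have h2 : qLen (condLat O K n) N' + n * δ = n * qLen (cond O K) (1 : Submodule O K) + n * δ := by
    rw [← h1, ← qLen_add hCN' hN'T, h1, qLen_add hCO hOT, hOTlen, qLen_pi, Fintype.card_fin]
  exact ENat.add_left_injective_of_ne_top hnδ h2

end TFLatticeLib
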