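import Mathlib.RingTheory.Length
import Mathlib.RingTheory.HopkinsLevitzki
import Mathlib.RingTheory.KrullDimension.Basic

/-!
# Lengths of quotients of nested submodules
-/

set_option autoImplicit false
set_option linter.style.haveILetI false
universe u v

open Submodule

namespace TFLatticeLib

variable {O : Type u} [CommRing O] {V : Type v} [AddCommGroup V] [Module O V]

/-- The length of a quotient of nested submodules. -/
noncomputable def qLen (A B : Submodule O V) : ℕ∞ := Module.length O (↥B ⧸ A.comap B.subtype)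

theorem qLen_add {A B C : Submodule O V} (hAB : A ≤ B) (hBC : B ≤ C) :
    qLen A C = qLen A B + qLen B C := by
  refine Module.length_eq_add_of_exact
    (mapQ (A.comap B.subtype) (A.comap C.subtype) (inclusion hBC) fun x hx => hx)
    (mapQ (A.comap C.subtype) (B.comap C.subtype) LinearMap.id fun x hx => hAB hx)
    ?_ (fun x => ?_) (fun x => ?_)
  · rw [← LinearMap.ker_eq_bot, Submodule.eq_bot_iff]
    rintro x hx
    obtain ⟨x, rfl⟩ := Submodule.Quotient.mk_surjective _ x
    have h : Submodule.Quotient.mk (p := A.comap C.subtype) (inclusion hBC x) = 0 := LinearMap.mem_ker.1 hx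
    rw [Submodule.Quotient.mk_eq_zero] at h
    exact (Submodule.Quotient.mk_eq_zero _).2 h
  · obtain ⟨x, rfl⟩ := Submodule.Quotient.mk_surjective _ x
    exact ⟨Submodule.Quotient.mk x, rfl⟩
  · obtain ⟨x, rfl⟩ := Submodule.Quotient.mk_surjective _ x
    change Submodule.Quotient.mk x = 0 ↔ _
    rw [Submodule.Quotient.mk_eq_zero]
    constructor
    · exact fun hx => ⟨Submodule.Quotient.mk ⟨x.1, hx⟩, rfl⟩
    · rintro ⟨y, hy⟩
      obtain ⟨y, rfl⟩ := Submodule.Quotient.mk_surjective _ y
      have h := (Submodule.Quotient.eq _).1 hy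
      change (x : V) ∈ B
      rw [show (x : V) = y.1 - (y.1 - x.1) by abel]
      exact B.sub_mem y.2 (hAB h)

theorem qLen_mono {A B C : Submodule O V} (hAB : A ≤ B) (hBC : B ≤ C) : qLen B C ≤ qLen A C :=
  (qLen_add hAB hBC).symm ▸ le_add_self

theorem qLen_self (A : Submodule O V) : qLen A A = 0 := by
  haveI : Subsingleton (↥A ⧸ A.comap A.subtype) :=
    Submodule.Quotient.subsingleton_iff.2 (comap_subtype_self A)
  exact Module.length_eq_zero

theorem qLen_map {V' : Type v} [AddCommGroup V'] [Module O V'] (g : V ≃ₗ[O] V') (A B : Submodule O V) :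
    qLen (A.map (g : V →ₗ[O] V')) (B.map (g : V →ₗ[O] V')) = qLen A B := by
  refine (LinearEquiv.length_eq (Submodule.Quotient.equiv _ _ (g.submoduleMap B) ?_)).symm
  ext ⟨y, hy⟩
  obtain ⟨x, hx, rfl⟩ := hy
  constructor
  · rintro ⟨⟨z, hz⟩, hzA, e⟩
    exact ⟨z, hzA, congrArg Subtype.val e⟩
  · rintro ⟨z, hzA, e⟩
    obtain rfl : z = x := g.injective e
    exact ⟨⟨z, hx⟩, hzA, rfl⟩

theorem qLen_pi {κ : Type} [Fintype κ] (A B : Submodule O V) :
    qLen (pi Set.univ fun _ : κ => A) (pi Set.univ fun _ : κ => B) = Fintype.card κ * qLen A B := by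
  let f : ↥(pi Set.univ fun _ : κ => B) →ₗ[O] (κ → ↥B ⧸ A.comap B.subtype) :=
    LinearMap.pi fun i => (A.comap B.subtype).mkQ ∘ₗ
      LinearMap.codRestrict B (LinearMap.proj i ∘ₗ (pi Set.univ fun _ : κ => B).subtype) fun x => x.2 i trivial
  have hs : Function.Surjective f := fun y => by
    choose z hz using fun i => Submodule.Quotient.mk_surjective (A.comap B.subtype) (y i)
    exact ⟨⟨fun i => (z i : V), fun i _ => (z i).2⟩, funext hz⟩
  have hk : LinearMap.ker f = (pi Set.univ fun _ : κ => A).comap (pi Set.univ fun _ : κ => B).subtype := by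
    ext x
    simp [f, funext_iff, Submodule.mem_pi, Submodule.Quotient.mk_eq_zero]
    all_goals rfl
  rw [qLen, ← hk, (f.quotKerEquivOfSurjective hs).length_eq, Module.length_pi_of_fintype]
  simp [qLen]

variable [IsNoetherianRing O] [IsLocalRing O] [IsDomain O] [Ring.KrullDimLE 1 O]

theorem qLen_ne_top {A B : Submodule O V} (hB : B.FG) {c : O} (hc : c ≠ 0) (h : ∀ b ∈ B, c • b ∈ A) :
    qLen A B ≠ ⊤ := by
  let I : Ideal O := Ideal.span {c}
  haveI : Module.Finite O B := Module.Finite.iff_fg.2 hB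
  haveI : IsArtinianRing (O ⧸ I) := by
    refine isArtinianRing_iff_isNoetherianRing_krullDimLE_zero.2
      ⟨isNoetherianRing_of_surjective O _ (Ideal.Quotient.mk I) Ideal.Quotient.mk_surjective, Ring.krullDimLE_zero_iff.2 fun p hp => ?_⟩
    haveI := hp
    have hpc : (p.comap (Ideal.Quotient.mk I)).IsPrime := Ideal.comap_isPrime _ p
    have hne : p.comap (Ideal.Quotient.mk I) ≠ ⊥ := fun h0 => hc ((Ideal.mem_bot).1 (h0 ▸
      (show Ideal.Quotient.mk I c ∈ p by
        rw [Ideal.Quotient.eq_zero_iff_mem.2 (Ideal.mem_span_singleton_self c)]; exact p.zero_mem)))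
    haveI := hpc.isMaximal_of_ne_bot hne
    rw [← Ideal.map_comap_of_surjective _ Ideal.Quotient.mk_surjective p]
    refine (Ideal.map_eq_top_or_isMaximal_of_surjective _ Ideal.Quotient.mk_surjective this).resolve_left ?_
    rw [Ideal.map_comap_of_surjective _ Ideal.Quotient.mk_surjective]
    exact hp.ne_top
  obtain ⟨s, π, hπ⟩ := Module.Finite.exists_fin' O (↥B ⧸ A.comap B.subtype)
  have hle : LinearMap.ker (LinearMap.pi fun i : Fin s => I.mkQ ∘ₗ LinearMap.proj i) ≤ LinearMap.ker π := by
    intro x hx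
    have hxi : ∀ i, x i ∈ I := fun i => (Submodule.Quotient.mk_eq_zero I).1 (congrFun (LinearMap.mem_ker.1 hx) i)
    choose y hy using fun i => Ideal.mem_span_singleton'.1 (hxi i)
    have : x = c • y := funext fun i => by rw [Pi.smul_apply, smul_eq_mul, mul_comm]; exact (hy i).symm
    rw [this, LinearMap.mem_ker, map_smul]
    obtain ⟨b, hb⟩ := Submodule.Quotient.mk_surjective _ (π y)
    rw [← hb, ← Submodule.Quotient.mk_smul, Submodule.Quotient.mk_eq_zero]
    exact h b b.2
  have hs : Function.Surjective (LinearMap.pi fun i : Fin s => I.mkQ ∘ₗ LinearMap.proj i) := fun y => by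
    choose z hz using fun i => Submodule.Quotient.mk_surjective I (y i)
    exact ⟨z, funext hz⟩
  let Φ := (Submodule.liftQ _ π hle).comp
    ((LinearMap.pi fun i : Fin s => I.mkQ ∘ₗ LinearMap.proj i).quotKerEquivOfSurjective hs).symm.toLinearMap
  have hΦ : Function.Surjective Φ := fun z => by
    obtain ⟨x, rfl⟩ := hπ z
    exact ⟨_, (congrArg (Submodule.liftQ _ π hle) (LinearEquiv.symm_apply_apply _ (Submodule.Quotient.mk x))).trans rfl⟩
  refine ne_top_of_le_ne_top ?_ (Module.length_le_of_surjective Φ hΦ)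
  rw [Module.length_pi_of_fintype, Finset.sum_const, Finset.card_univ, nsmul_eq_mul,
    Module.length_eq_of_surjective (R := O ⧸ I) (S := O) Ideal.Quotient.mk_surjective]
  exact WithTop.mul_ne_top (ENat.natCast_ne_top _) Module.length_ne_top

end TFLatticeLib
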