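import Groth.Agent.TFLatticeLib.Norm
import Groth.Agent.TFLatticeLib.Len
import Mathlib.LinearAlgebra.FreeModule.PID
import Mathlib.Algebra.MvPolynomial.Funext
import Mathlib.LinearAlgebra.Matrix.ToLin
import Mathlib.FieldTheory.IsAlgClosed.Basic
import Mathlib.RingTheory.Localization.Module
import Mathlib.RingTheory.Ideal.AssociatedPrime.Basic

/-!
# Lattices over a one-dimensional local domain and over its normalisation
-/

set_option autoImplicit false
set_option linter.style.haveILetI false
universe u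

open Submodule

namespace TFLatticeLib

variable (O : Type u) [CommRing O] [IsDomain O] (K : Type u) [Field K] [Algebra O K]

/-- The lattice `O^n`. -/
abbrev stdLat (n : ℕ) : Submodule O (Fin n → K) := pi Set.univ fun _ : Fin n => (1 : Submodule O K)

/-- The lattice `T^n`. -/
abbrev norLat (n : ℕ) : Submodule O (Fin n → K) :=
  pi Set.univ fun _ : Fin n => Subalgebra.toSubmodule (integralClosure O K)

theorem single_mem_stdLat {n : ℕ} (i : Fin n) : (Pi.single i (1 : K)) ∈ stdLat O K n := fun j _ => by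
  rcases eq_or_ne j i with rfl | h
  · exact Submodule.mem_one.2 ⟨1, by simp⟩
  · rw [Pi.single_eq_of_ne h]; exact zero_mem _

theorem mem_span_single {n : ℕ} {x : Fin n → K} (hx : x ∈ norLat O K n) :
    x ∈ span (Nor O K) (Set.range fun i : Fin n => (Pi.single i (1 : K) : Fin n → K)) := by
  have hx' : x = ∑ i, (⟨x i, hx i trivial⟩ : Nor O K) • (Pi.single i (1 : K) : Fin n → K) := by
    conv_lhs => rw [← Finset.univ_sum_single x]
    refine Finset.sum_congr rfl fun i _ => funext fun j => ?_
    rcases eq_or_ne j i with rfl | h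
    · simp only [Pi.single_eq_same, Pi.smul_apply]
      exact (mul_one (x j)).symm
    · simp [Pi.single_eq_of_ne h]
  rw [hx']
  exact sum_mem fun i _ => smul_mem _ _ (subset_span ⟨i, rfl⟩)

theorem le_norLat_of_le {n : ℕ} {x : Fin n → K}
    (hx : x ∈ span (Nor O K) (Set.range fun i : Fin n => (Pi.single i (1 : K) : Fin n → K))) :
    x ∈ norLat O K n := by
  induction hx using span_induction with
  | mem y hy =>
    obtain ⟨i, rfl⟩ := hy
    intro j _
    rcases eq_or_ne j i with rfl | h
    · simpa using (integralClosure O K).one_mem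
    · dsimp only; rw [Pi.single_eq_of_ne h]; exact zero_mem _
  | zero => exact zero_mem _
  | add y z _ _ hy hz => exact add_mem hy hz
  | smul a y _ hy => exact fun j _ => (integralClosure O K).mul_mem a.2 (hy j trivial)

variable [IsFractionRing O K] [IsNoetherianRing O] [IsLocalRing O] [Ring.KrullDimLE 1 O]
  [Module.Finite O (Nor O K)] [IsAlgClosed (IsLocalRing.ResidueField O)]

/-- A finitely generated spanning submodule has elements forming a basis of the lattice it generates
over the normalisation. -/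
theorem exists_standardize {n : ℕ} (N : Submodule O (Fin n → K)) (hN : N.FG)
    (hspan : span K (N : Set (Fin n → K)) = ⊤) :
    ∃ g : (Fin n → K) ≃ₗ[K] (Fin n → K),
      stdLat O K n ≤ N.map (g.restrictScalars O : (Fin n → K) →ₗ[O] (Fin n → K)) ∧
      N.map (g.restrictScalars O : (Fin n → K) →ₗ[O] (Fin n → K)) ≤ norLat O K n := by
  classical
  haveI := isPrincipalIdealRing_nor O K
  obtain ⟨s, m, hm⟩ := Submodule.fg_iff_exists_fin_generating_family.1 hN
  let L : Submodule (Nor O K) (Fin n → K) := span (Nor O K) (Set.range m)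
  haveI : Module.Finite (Nor O K) L := Module.Finite.iff_fg.2 (fg_span (Set.finite_range m))
  haveI : Module.IsTorsionFree (Nor O K) K :=
    Module.isTorsionFree_iff_smul_eq_zero.2 fun c x h => by
      rw [Algebra.smul_def, mul_eq_zero, map_eq_zero_iff _ (IsFractionRing.injective (Nor O K) K)] at h
      exact h
  have hmN : ∀ l, m l ∈ N := fun l => hm ▸ subset_span ⟨l, rfl⟩
  have hNL : ∀ x ∈ N, x ∈ L := by
    intro x hx
    rw [← hm] at hx
    exact span_le_restrictScalars O (Nor O K) (Set.range m) hx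
  obtain ⟨r, b⟩ : Σ r, Module.Basis (Fin r) (Nor O K) L := Module.basisOfFiniteTypeTorsionFree'
  have hli : LinearIndependent K fun i => (b i : Fin n → K) :=
    (LinearIndependent.iff_fractionRing (R := Nor O K) (K := K)).1 (b.linearIndependent.map' L.subtype L.ker_subtype)
  have hsp : ⊤ ≤ span K (Set.range fun i => (b i : Fin n → K)) := by
    rw [← hspan, span_le]
    intro x hx
    have h1 : (⟨x, hNL x hx⟩ : L) ∈ span (Nor O K) (Set.range b) := b.span_eq ▸ mem_top
    have h2 := mem_map_of_mem (f := L.subtype) h1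
    rw [map_span, ← Set.range_comp] at h2
    exact span_le_restrictScalars (Nor O K) K _ h2
  let bK : Module.Basis (Fin r) K (Fin n → K) := Module.Basis.mk hli hsp
  have hr : r = n := by
    have := Module.finrank_eq_card_basis bK
    rw [Module.finrank_fin_fun, Fintype.card_fin] at this
    exact this.symm
  subst hr
  let g₀ : (Fin r → K) ≃ₗ[K] (Fin r → K) := bK.equivFun
  have hg₀ : ∀ i, g₀ (b i : Fin r → K) = Pi.single i 1 := fun i => by
    have : (b i : Fin r → K) = bK i := (Module.Basis.mk_apply hli hsp i).symm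
    rw [this]
    funext j
    simp [g₀, Pi.single_apply, eq_comm]
  -- coordinates of the generators
  let a : Fin s → Fin r → Nor O K := fun l i => b.repr ⟨m l, hNL _ (hmN l)⟩ i
  have hA : ∀ l, g₀ (m l) = fun i => (a l i : K) := fun l => by
    have h1 : m l = ∑ i, a l i • (b i : Fin r → K) := by
      have e := congrArg L.subtype (b.sum_repr ⟨m l, hNL _ (hmN l)⟩).symm
      rw [map_sum] at e
      exact e
    funext j
    rw [h1, map_sum, Finset.sum_apply, Finset.sum_eq_single j]
    · rw [← IsScalarTower.algebraMap_smul K (a l j), map_smul, hg₀, Pi.smul_apply, Pi.single_eq_same]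
      exact mul_one _
    · intro i _ hi
      rw [← IsScalarTower.algebraMap_smul K (a l i), map_smul, hg₀, Pi.smul_apply, Pi.single_eq_of_ne hi.symm,
        smul_zero]
    · simp
  let A : Matrix (Fin r) (Fin s) (Nor O K) := Matrix.of fun i l => a l i
  have hB : ∀ j : Fin r, ∃ c : Fin s → Nor O K, ∑ l, c l • m l = (b j : Fin r → K) := fun j =>
    (mem_span_range_iff_exists_fun (Nor O K)).1 (b j).2
  choose B hB using hB
  have hAB : A * Matrix.of (fun l j => B j l) = 1 := by
    refine Matrix.ext fun i j => ?_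
    have h1 : (⟨_, (b j).2⟩ : L) = ∑ l, B j l • (⟨m l, hNL _ (hmN l)⟩ : L) := Subtype.ext (by simp [hB])
    have h2 := congrArg (fun z => b.repr z i) h1
    simp only [map_sum, map_smul, Finsupp.coe_finsetSum, Finset.sum_apply, Finsupp.smul_apply, smul_eq_mul] at h2
    rw [Matrix.mul_apply, Matrix.one_apply]
    refine (Finset.sum_congr rfl fun l _ => mul_comm _ _).trans (h2.symm.trans ?_)
    simp [Finsupp.single_apply, eq_comm]
  -- a generic combination
  let k := IsLocalRing.ResidueField O
  haveI : Infinite k := IsAlgClosed.instInfinite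
  haveI : Fintype {P : Ideal (Nor O K) | P.IsMaximal} := (finite_maximals O K).fintype
  choose π hπker hπ using fun P : {P : Ideal (Nor O K) | P.IsMaximal} =>
    (haveI : P.1.IsMaximal := P.2; exists_residue O K P.1)
  let q : {P : Ideal (Nor O K) | P.IsMaximal} → MvPolynomial (Fin s × Fin r) k := fun P =>
    ((A.map (π P)).map MvPolynomial.C * Matrix.of fun l j => MvPolynomial.X (l, j)).det
  have heval : ∀ P (x : Fin s × Fin r → k), MvPolynomial.eval x (q P) =
      (A.map (π P) * Matrix.of fun l j => x (l, j)).det := fun P x => by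
    rw [RingHom.map_det]
    congr 1
    ext i j
    simp [Matrix.mul_apply]
  have hq : ∀ P, q P ≠ 0 := fun P h => by
    have h1 := heval P fun lj => π P (B lj.2 lj.1)
    rw [h, map_zero,
      show (Matrix.of fun l j => π P (B (l, j).2 (l, j).1)) = (Matrix.of fun l j => B j l).map (π P) from rfl,
      ← Matrix.map_mul, hAB, Matrix.map_one _ (map_zero _) (map_one _), Matrix.det_one] at h1
    exact zero_ne_one h1
  obtain ⟨x, hx⟩ : ∃ x, MvPolynomial.eval x (∏ P, q P) ≠ 0 := by
    by_contra h
    push_neg at h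
    exact Finset.prod_ne_zero_iff.2 (fun P _ => hq P)
      (MvPolynomial.funext (q := 0) fun x => by rw [h x, map_zero])
  choose c hc using fun lj => IsLocalRing.residue_surjective (x lj)
  let Cm : Matrix (Fin s) (Fin r) (Nor O K) := Matrix.of fun l j => algebraMap O (Nor O K) (c (l, j))
  have hY : IsUnit (A * Cm).det := by
    by_contra h
    obtain ⟨P, hP, hle⟩ := exists_max_ideal_of_mem_nonunits h
    have h1 : π ⟨P, hP⟩ (A * Cm).det = 0 := by
      rw [← RingHom.mem_ker, hπker]; exact hle
    rw [map_prod, Finset.prod_ne_zero_iff] at hx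
    refine hx ⟨P, hP⟩ (Finset.mem_univ _) ?_
    rw [heval, ← h1, RingHom.map_det, RingHom.mapMatrix_apply, Matrix.map_mul]
    congr 2
    ext l j
    simp [Cm, hπ, hc]
  let Y : Matrix (Fin r) (Fin r) (Nor O K) := A * Cm
  let f : Nor O K →+* K := algebraMap (Nor O K) K
  have hinv₁ : (Y⁻¹).map f * Y.map f = 1 := by
    rw [← Matrix.map_mul, Matrix.nonsing_inv_mul _ hY, Matrix.map_one _ (map_zero _) (map_one _)]
  have hinv₂ : Y.map f * (Y⁻¹).map f = 1 := by
    rw [← Matrix.map_mul, Matrix.mul_nonsing_inv _ hY, Matrix.map_one _ (map_zero _) (map_one _)]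
  let g₁ : (Fin r → K) ≃ₗ[K] (Fin r → K) :=
    LinearEquiv.ofLinear (Matrix.mulVecLin ((Y⁻¹).map f)) (Matrix.mulVecLin (Y.map f))
      (by rw [← Matrix.mulVecLin_mul, hinv₁, Matrix.mulVecLin_one])
      (by rw [← Matrix.mulVecLin_mul, hinv₂, Matrix.mulVecLin_one])
  refine ⟨g₀.trans g₁, fun z hz => ?_, ?_⟩
  · have hzsum : z = ∑ j, (z j) • (Pi.single j (1 : K) : Fin r → K) := by
      conv_lhs => rw [← Finset.univ_sum_single z]
      exact Finset.sum_congr rfl fun j _ => by simp [← Pi.single_smul']
    choose o ho using fun j => Submodule.mem_one.1 (hz j trivial)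
    rw [hzsum]
    refine sum_mem fun j _ => ?_
    rw [← ho j, IsScalarTower.algebraMap_smul]
    refine smul_mem _ _ ⟨∑ l, c (l, j) • m l, sum_mem fun l _ => smul_mem _ _ (hmN l), ?_⟩
    have e : g₀ (∑ l, c (l, j) • m l) = (Y.map f).mulVec (Pi.single j 1) := by
      rw [Matrix.mulVec_single_one]
      funext i
      have hsm : ∀ (o : O) (w : Fin r → K), g₀ (o • w) = o • g₀ w := fun o w =>
        g₀.toLinearMap.map_smul_of_tower o w
      simp only [map_sum, hsm, hA, Finset.sum_apply, Pi.smul_apply, Matrix.col_apply,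
        Matrix.map_apply, Y, Matrix.mul_apply, f]
      refine Finset.sum_congr rfl fun l _ => ?_
      rw [map_mul, Algebra.smul_def, mul_comm]
      rfl
    change g₁ (g₀ _) = _
    rw [e]
    change ((Y⁻¹).map f).mulVec ((Y.map f).mulVec _) = _
    rw [Matrix.mulVec_mulVec, hinv₁, Matrix.one_mulVec]
  · rw [← hm, map_span, span_le]
    rintro _ ⟨_, ⟨l, rfl⟩, rfl⟩
    intro i _
    change g₁ (g₀ (m l)) i ∈ integralClosure O K
    rw [hA]
    change ∑ i' : Fin r, ((Y⁻¹).map f) i i' * (a l i' : K) ∈ integralClosure O K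
    exact sum_mem fun i' _ => (integralClosure O K).mul_mem ((Y⁻¹) i i').2 (a l i').2

/-- A lattice over the normalisation strictly inside another can be enlarged by one step. -/
theorem exists_step {n : ℕ} (L U : Submodule O (Fin n → K)) (hLU : L ≤ U) (hne : L ≠ U) (hU : U.FG)
    (hL : ∀ t : Nor O K, ∀ x ∈ L, t • x ∈ L) (hU' : ∀ t : Nor O K, ∀ x ∈ U, t • x ∈ U)
    {c : O} (hc : c ≠ 0) (hcU : ∀ x ∈ U, c • x ∈ L) :
    ∃ L', L ≤ L' ∧ L' ≤ U ∧ (∀ t : Nor O K, ∀ x ∈ L', t • x ∈ L') ∧ qLen L L' = 1 := by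
  haveI : IsNoetherianRing (Nor O K) := IsNoetherianRing.of_finite O _
  let L₂ : Submodule (Nor O K) (Fin n → K) := { L with smul_mem' := hL }
  let U₂ : Submodule (Nor O K) (Fin n → K) := { U with smul_mem' := hU' }
  haveI : Nontrivial (↥U₂ ⧸ L₂.comap U₂.subtype) := Submodule.Quotient.nontrivial_iff.2 fun h =>
    hne (le_antisymm hLU fun x hx => (show (⟨x, hx⟩ : U₂) ∈ L₂.comap U₂.subtype from h ▸ mem_top))
  obtain ⟨P, hPass⟩ := associatedPrimes.nonempty (Nor O K) (↥U₂ ⧸ L₂.comap U₂.subtype)
  obtain ⟨hPp, f, hf⟩ := (isAssociatedPrime_iff_exists_injective_linearMap P _).1 hPass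
  obtain ⟨⟨z, hz⟩, hzf⟩ := Submodule.Quotient.mk_surjective _ (f (Ideal.Quotient.mk P 1))
  have hkey : ∀ t : Nor O K, t • z ∈ L ↔ t ∈ P := fun t => by
    rw [← Ideal.Quotient.eq_zero_iff_mem, ← map_eq_zero_iff f hf,
      show Ideal.Quotient.mk P t = t • Ideal.Quotient.mk P 1 by
        rw [Algebra.smul_def, Ideal.Quotient.algebraMap_eq, map_one, mul_one],
      map_smul, ← hzf, ← Submodule.Quotient.mk_smul, Submodule.Quotient.mk_eq_zero]
    rfl
  have hP0 : P ≠ ⊥ := fun h => hc (by
    have := (hkey (algebraMap O (Nor O K) c)).1 (by rw [IsScalarTower.algebraMap_smul]; exact hcU z hz)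
    rw [h, Ideal.mem_bot] at this
    refine (map_eq_zero_iff _ (IsFractionRing.injective O K)).1 ?_
    exact congrArg Subtype.val this)
  haveI : Ring.DimensionLEOne O := ⟨fun {p} h0 hp => hp.isMaximal_of_ne_bot h0⟩
  haveI : Ring.DimensionLEOne (Nor O K) := Ring.DimensionLEOne.integralClosure (R := O) (A := K)
  haveI : P.IsMaximal := Ring.DimensionLEOne.maximalOfPrime hP0 hPp
  obtain ⟨π, hker, hπ⟩ := exists_residue O K P
  have hdec : ∀ t : Nor O K, ∃ o : O, t - algebraMap O (Nor O K) o ∈ P := fun t => by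
    obtain ⟨o, ho⟩ := IsLocalRing.residue_surjective (π t)
    exact ⟨o, by rw [← hker, RingHom.mem_ker, map_sub, hπ, ho, sub_self]⟩
  refine ⟨L ⊔ span O {z}, le_sup_left, sup_le hLU ((span_singleton_le_iff_mem _ _).2 hz),
    fun t x hx => ?_, ?_⟩
  · obtain ⟨l, hl, w, hw, rfl⟩ := mem_sup.1 hx
    obtain ⟨o, rfl⟩ := mem_span_singleton.1 hw
    rw [smul_add]
    refine add_mem (mem_sup_left (hL t l hl)) ?_
    obtain ⟨o', ho'⟩ := hdec (o • t)
    have e : t • (o • z) = (o • t - algebraMap O (Nor O K) o') • z + o' • z := by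
      rw [sub_smul, IsScalarTower.algebraMap_smul, sub_add_cancel, smul_assoc, smul_comm]
    rw [e]
    exact add_mem (mem_sup_left ((hkey _).2 ho')) (mem_sup_right (smul_mem _ _ (mem_span_singleton_self z)))
  · let B : Submodule O (Fin n → K) := L ⊔ span O {z}
    let g : O →ₗ[O] (↥B ⧸ L.comap B.subtype) :=
      LinearMap.toSpanSingleton O _ (Submodule.Quotient.mk ⟨z, mem_sup_right (mem_span_singleton_self z)⟩)
    have hg : Function.Surjective g := fun q => by
      obtain ⟨⟨y, hy⟩, rfl⟩ := Submodule.Quotient.mk_surjective _ q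
      obtain ⟨l, hl, w, hw, rfl⟩ := mem_sup.1 hy
      obtain ⟨o, rfl⟩ := mem_span_singleton.1 hw
      refine ⟨o, ?_⟩
      show o • Submodule.Quotient.mk (p := L.comap B.subtype) (_ : B) = _
      rw [← Submodule.Quotient.mk_smul, Submodule.Quotient.eq]
      show o • z - (l + o • z) ∈ L
      rw [show o • z - (l + o • z) = -l by abel]
      exact L.neg_mem hl
    have hker' : LinearMap.ker g = IsLocalRing.maximalIdeal O := by
      ext o
      rw [LinearMap.mem_ker, show g o = Submodule.Quotient.mk (o • (⟨z, _⟩ : B)) from rfl,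
        Submodule.Quotient.mk_eq_zero]
      show o • z ∈ L ↔ _
      rw [← IsScalarTower.algebraMap_smul (Nor O K) o z, hkey, ← hker, RingHom.mem_ker, hπ,
        IsLocalRing.residue_eq_zero_iff]
    rw [qLen, ← (g.quotKerEquivOfSurjective hg).length_eq, hker']
    haveI : IsSimpleModule O (O ⧸ IsLocalRing.maximalIdeal O) :=
      isSimpleModule_iff_isCoatom.2 (IsLocalRing.maximalIdeal.isMaximal O).out
    exact Module.length_eq_one_iff.2 inferInstance

end TFLatticeLib
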