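import Mathlib.RingTheory.DedekindDomain.PID
import Mathlib.RingTheory.IntegralClosure.IntegrallyClosed
import Mathlib.RingTheory.QuasiFinite.Basic
import Mathlib.FieldTheory.IsAlgClosed.Basic
import Mathlib.RingTheory.Ideal.GoingUp
import Mathlib.RingTheory.KrullDimension.Basic
import Mathlib.RingTheory.LocalRing.ResidueField.Basic

/-!
# The normalisation of a one-dimensional local domain with finite integral closure
-/

set_option autoImplicit false
set_option linter.style.haveILetI false
universe u

namespace TFLatticeLib

variable (O : Type u) [CommRing O] [IsDomain O] (K : Type u) [Field K] [Algebra O K] [IsFractionRing O K]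

/-- The normalisation. -/
abbrev Nor : Type u := ↥(integralClosure O K)

instance isFractionRing_nor : IsFractionRing (Nor O K) K :=
  IsIntegralClosure.isFractionRing_of_finite_extension O K K (Nor O K)

variable [IsNoetherianRing O] [IsLocalRing O] [Ring.KrullDimLE 1 O] [hfin : Module.Finite O (Nor O K)]

theorem isPrincipalIdealRing_nor : IsPrincipalIdealRing (Nor O K) := by
  haveI : IsNoetherianRing (Nor O K) := IsNoetherianRing.of_finite O _
  haveI : IsIntegrallyClosed (Nor O K) := integralClosure.isIntegrallyClosedOfFiniteExtension K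
  haveI : Ring.DimensionLEOne O := ⟨fun {p} h0 hp => hp.isMaximal_of_ne_bot h0⟩
  haveI : Ring.DimensionLEOne (Nor O K) := Ring.DimensionLEOne.integralClosure (R := O) (A := K)
  haveI : IsDedekindDomain (Nor O K) := { }
  refine IsPrincipalIdealRing.of_finite_primes ?_
  refine ((Algebra.QuasiFinite.finite_primesOver (S := Nor O K) (IsLocalRing.maximalIdeal O)).union
    (Set.finite_singleton (⊥ : Ideal (Nor O K)))).subset fun P hP => ?_
  haveI : P.IsPrime := hP
  rcases eq_or_ne P ⊥ with h | h
  · exact Or.inr h
  · haveI := Ring.DimensionLEOne.maximalOfPrime h hP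
    exact Or.inl ⟨hP, ⟨(IsLocalRing.eq_maximalIdeal
      (Ideal.isMaximal_comap_of_isIntegral_of_isMaximal (R := O) P)).symm⟩⟩

theorem finite_maximals : {P : Ideal (Nor O K) | P.IsMaximal}.Finite :=
  (Algebra.QuasiFinite.finite_primesOver (S := Nor O K) (IsLocalRing.maximalIdeal O)).subset fun P hP => by
    haveI : P.IsMaximal := hP
    exact ⟨inferInstance, ⟨(IsLocalRing.eq_maximalIdeal
      (Ideal.isMaximal_comap_of_isIntegral_of_isMaximal (R := O) P)).symm⟩⟩

/-- Every residue field of the normalisation is the residue field. -/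
theorem exists_residue [IsAlgClosed (IsLocalRing.ResidueField O)] (P : Ideal (Nor O K)) [P.IsMaximal] :
    ∃ π : Nor O K →+* IsLocalRing.ResidueField O, RingHom.ker π = P ∧
      ∀ o, π (algebraMap O (Nor O K) o) = IsLocalRing.residue O o := by
  have hP : P.comap (algebraMap O (Nor O K)) = IsLocalRing.maximalIdeal O :=
    IsLocalRing.eq_maximalIdeal (Ideal.isMaximal_comap_of_isIntegral_of_isMaximal (R := O) P)
  let χ : O →+* Nor O K ⧸ P := (Ideal.Quotient.mk P).comp (algebraMap O (Nor O K))
  let ψ : IsLocalRing.ResidueField O →+* Nor O K ⧸ P :=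
    Ideal.Quotient.lift _ χ fun o ho => Ideal.Quotient.eq_zero_iff_mem.2 (by rw [← hP] at ho; exact ho)
  have hint : ψ.IsIntegral := by
    refine RingHom.IsIntegral.tower_top (IsLocalRing.residue O) ψ ?_
    change χ.IsIntegral
    exact RingHom.IsIntegral.trans (algebraMap O (Nor O K)) (Ideal.Quotient.mk P)
      (algebraMap_isIntegral_iff.2 inferInstance) (RingHom.isIntegral_of_surjective _ Ideal.Quotient.mk_surjective)
  letI : Field (Nor O K ⧸ P) := Ideal.Quotient.field P
  let e := RingEquiv.ofBijective ψ (IsAlgClosed.ringHom_bijective_of_isIntegral ψ hint)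
  refine ⟨e.symm.toRingHom.comp (Ideal.Quotient.mk P), ?_, fun o => ?_⟩
  · ext x
    simp [RingHom.mem_ker, Ideal.Quotient.eq_zero_iff_mem]
  · refine e.injective ?_
    rw [RingHom.comp_apply]
    exact (e.apply_symm_apply _).trans rfl

end TFLatticeLib
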